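import Mathlib.Data.Nat.Notation

/-! Generated: transversal words in the eight members. -/

set_option autoImplicit false
set_option maxRecDepth 100000

namespace CfsgLib.Fi22Invol25.FixData

/-- words carrying the first member to the member of a mask -/
def words1 : List (List ℕ) :=
  [[], [], [], [], [], [], [], [], [], [], [], [], [], [], [], [], [], [2], [], [3, 4, 1, 3, 2], [], [5, 6, 1, 3, 4, 5, 2, 3, 4, 1, 3, 2], [], [4, 5, 6, 3, 4, 5, 2, 3, 4, 1, 3, 2], [], [6, 7, 5, 6, 4, 5, 3, 4, 1, 3, 2], [], [6, 7, 2, 3, 4, 5, 6, 1, 3, 4, 5, 2, 3, 4, 1, 3, 2], [], [7, 5, 6, 3, 4, 5, 2, 3, 4, 1, 3, 2], [], [7, 4, 5, 6, 1, 3, 4, 5, 2, 3, 4, 1, 3, 2], [], [], [5, 3, 4, 2, 3, 0, 2], [5, 2, 3, 4, 1, 3,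 2], [], [], [6, 5, 4, 3, 0, 2], [6, 5, 4, 1, 3, 2], [], [], [4, 3, 2, 1, 3, 4, 5, 6, 7, 0, 2, 3, 4, 5, 6, 1, 3, 4, 5, 2, 3, 4, 1, 3, 2], [5, 6, 7, 3, 4, 5, 6, 1, 3, 4, 5, 2, 3, 4, 1, 3, 2], [], [], [7, 6, 5, 4, 1, 3, 0, 2], [7, 6, 5, 4, 3, 2], [], [4, 5, 3, 4, 1, 3, 2], [5, 3, 4, 1, 3, 0, 2], [], [], [6, 3, 4, 5, 2, 3, 4, 1, 3, 2], [6, 5, 4, 2, 1, 3, 0, 2], [], [], [4, 5, 6, 7, 2, 3, 4, 5, 6, 1, 3, 4, 5, 2, 3, 4, 1, 3, 2], [5, 6, 7, 0, 2, 3, 4, 5, 6, 1, 3, 4, 5, 2, 3, 4, 1, 3, 2], [], [], [7, 6, 1, 3, 4, 5, 2, 3, 4, 1, 3, 2], [7, 6, 5, 4, 2, 3, 0, 2], [], [], [], [], [], [3, 2, 1, 3, 0, 2], [], [3, 4, 2, 3, 0, 2], [2, 3, 4, 1, 3, 2], [], [], [], [], [6, 7, 5, 6, 4, 5, 3, 4, 2, 3, 0, 2], [6, 7,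 5, 6, 4, 5, 2, 3, 4, 1, 3, 2], [5, 4, 3, 2, 1, 3, 4, 5, 6, 7, 0, 2, 3, 4, 5, 6, 1, 3, 4, 5, 2, 3, 4, 1, 3, 2], [6, 7, 3, 4, 5, 6, 1, 3, 4, 5, 2, 3, 4, 1, 3, 2], [], [5, 6, 3, 4, 5, 2, 3, 4, 1, 3, 2], [], [4, 5, 6, 1, 3, 4, 5, 2, 3, 4, 1, 3, 2], [0, 2], [], [3, 4, 1, 3, 0, 2], [], [], [7, 5, 6, 1, 3, 4, 5, 2, 3, 4, 1, 3, 2], [], [7, 4, 5, 6, 3, 4, 5, 2, 3, 4, 1, 3, 2], [6, 7, 5, 6, 4, 5, 3, 4, 1, 3, 0, 2], [], [6, 7, 0, 2, 3, 4, 5, 6, 1, 3, 4, 5, 2, 3, 4, 1, 3, 2], [], [], [], [6, 5, 4, 1, 3, 0, 2], [6, 5, 4, 3, 2], [4, 5, 3, 4, 2, 3, 0, 2], [4, 5, 2, 3, 4, 1, 3, 2], [], [], [], [], [7, 6, 5, 4, 3, 0, 2], [7, 6, 5, 4, 1, 3, 2], [3, 2, 1, 3, 4, 5, 6, 7, 0, 2, 3, 4, 5, 6, 1, 3, 4, 5, 2, 3, 4, 1,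 3, 2], [4, 5, 6, 7, 3, 4, 5, 6, 1, 3, 4, 5, 2, 3, 4, 1, 3, 2], [], [], [], [6, 1, 3, 4, 5, 2, 3, 4, 1, 3, 2], [6, 5, 4, 2, 3, 0, 2], [], [4, 5, 3, 4, 1, 3, 0, 2], [], [], [5, 3, 4, 1, 3, 2], [], [7, 6, 3, 4, 5, 2, 3, 4, 1, 3, 2], [7, 6, 5, 4, 2, 1, 3, 0, 2], [], [4, 5, 6, 7, 0, 2, 3, 4, 5, 6, 1, 3, 4, 5, 2, 3, 4, 1, 3, 2], [], [], [5, 6, 7, 2, 3, 4, 5, 6, 1, 3, 4, 5, 2, 3, 4, 1, 3, 2], [], [], [], [], [], [], [], [], [7, 6, 5, 4, 3, 2, 1, 3, 4, 5, 6, 7, 0, 2, 3, 4, 5, 6, 1, 3, 4, 5, 2, 3, 4, 1, 3, 2], [3, 4, 5, 6, 1, 3, 4, 5, 2, 3, 4, 1, 3, 2], [5, 6, 4, 5, 3, 4, 2, 3, 0, 2], [5, 6, 4, 5, 2, 3, 4, 1, 3, 2], [4, 1, 3, 0, 2], [4, 3, 2], [3, 0, 2], [1, 3, 2], [], [7, 2, 3, 4, 5, 6, 1, 3, 4, 5, 2,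 3, 4, 1, 3, 2], [], [7, 5, 6, 4, 5, 3, 4, 1, 3, 2], [], [6, 7, 4, 5, 6, 1, 3, 4, 5, 2, 3, 4, 1, 3, 2], [], [6, 7, 5, 6, 3, 4, 5, 2, 3, 4, 1, 3, 2], [0, 2, 3, 4, 5, 6, 1, 3, 4, 5, 2, 3, 4, 1, 3, 2], [], [5, 6, 4, 5, 3, 4, 1, 3, 0, 2], [], [4, 2, 3, 0, 2], [], [2, 1, 3, 0, 2], [], [], [], [7, 6, 4, 5, 3, 4, 2, 3, 0, 2], [7, 6, 4, 5, 2, 3, 4, 1, 3, 2], [], [], [3, 4, 5, 6, 7, 0, 2, 3, 4, 5, 6, 1, 3, 4, 5, 2, 3, 4, 1, 3, 2], [1, 3, 4, 5, 6, 7, 2, 3, 4, 5, 6, 1, 3, 4, 5, 2, 3, 4, 1, 3, 2], [6, 5, 3, 4, 2, 3, 0, 2], [6, 5, 2, 3, 4, 1, 3, 2], [], [], [5, 4, 3, 0, 2], [5, 4, 1, 3, 2], [], [], [], [7, 6, 5, 3, 4, 1, 3, 2], [7, 6, 4, 5, 3, 4, 1, 3, 0, 2], [], [], [5, 6, 7, 4, 5, 6, 3, 4, 5, 2, 3, 4, 1,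 3, 2], [2, 1, 3, 4, 5, 6, 7, 0, 2, 3, 4, 5, 6, 1, 3, 4, 5, 2, 3, 4, 1, 3, 2], [], [6, 5, 3, 4, 1, 3, 0, 2], [], [], [6, 4, 5, 3, 4, 1, 3, 2], [5, 4, 2, 1, 3, 0, 2], [], [], [3, 4, 5, 2, 3, 4, 1, 3, 2], [], [], [], [], [6, 5, 4, 3, 2, 1, 3, 4, 5, 6, 7, 0, 2, 3, 4, 5, 6, 1, 3, 4, 5, 2, 3, 4, 1, 3, 2], [7, 3, 4, 5, 6, 1, 3, 4, 5, 2, 3, 4, 1, 3, 2], [7, 5, 6, 4, 5, 3, 4, 2, 3, 0, 2], [7, 5, 6, 4, 5, 2, 3, 4, 1, 3, 2], [4, 3, 0, 2], [4, 1, 3, 2], [1, 3, 0, 2], [3, 2], [], [], [], [], [], [6, 7, 4, 5, 6, 3, 4, 5, 2, 3, 4, 1, 3, 2], [], [6, 7, 5, 6, 1, 3, 4, 5, 2, 3, 4, 1, 3, 2], [7, 0, 2, 3, 4, 5, 6, 1, 3, 4, 5, 2, 3, 4, 1, 3, 2], [], [7, 5, 6, 4, 5, 3, 4, 1, 3, 0, 2], [], [4, 2, 1, 3, 0, 2], [], [2,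 3, 0, 2], [], [], [2, 3, 4, 5, 6, 1, 3, 4, 5, 2, 3, 4, 1, 3, 2], [], [5, 6, 4, 5, 3, 4, 1, 3, 2], [], [], [1, 3, 4, 5, 6, 7, 0, 2, 3, 4, 5, 6, 1, 3, 4, 5, 2, 3, 4, 1, 3, 2], [3, 4, 5, 6, 7, 2, 3, 4, 5, 6, 1, 3, 4, 5, 2, 3, 4, 1, 3, 2], [7, 6, 5, 3, 4, 2, 3, 0, 2], [7, 6, 5, 2, 3, 4, 1, 3, 2], [], [], [5, 4, 1, 3, 0, 2], [5, 4, 3, 2], [], [], [], [], [6, 4, 5, 3, 4, 2, 3, 0, 2], [6, 4, 5, 2, 3, 4, 1, 3, 2], [], [5, 6, 7, 4, 5, 6, 1, 3, 4, 5, 2, 3, 4, 1, 3, 2], [2, 3, 4, 5, 6, 7, 0, 2, 3, 4, 5, 6, 1, 3, 4, 5, 2, 3, 4, 1, 3, 2], [], [7, 6, 5, 3, 4, 1, 3, 0, 2], [], [], [7, 6, 4, 5, 3, 4, 1, 3, 2], [5, 4, 2, 3, 0, 2], [], [], [1, 3, 4, 5, 2, 3, 4, 1, 3, 2], [], [6, 5, 3, 4, 1, 3, 2], [6, 4, 5, 3,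 4, 1, 3, 0, 2], []]

/-- words fixing the first member and carrying the sixth to the member of a mask -/
def words2 : List (List ℕ) :=
  [[], [], [], [], [], [], [], [], [], [], [], [], [], [], [], [], [], [], [], [], [], [5, 2, 3, 4, 1, 3, 2, 0, 2, 3, 1, 4, 3, 2, 6, 1, 3, 4], [], [4, 5, 2, 3, 4, 1, 3, 2, 0, 2, 3, 1, 4, 3, 2, 6, 3, 4], [], [], [], [], [], [5, 2, 3, 4, 1, 3, 2, 0, 2, 3, 1, 4, 3, 2, 7, 6, 3, 4], [], [4, 5, 2, 3, 4, 1, 3, 2, 0, 2, 3, 1, 4, 3, 2, 7, 6, 1, 3, 4], [], [], [4], [2, 3, 4, 1, 3, 2, 0, 2, 3, 1, 4, 3, 2], [], [], [], [], [], [], [2, 3, 4, 1, 3, 2, 0, 2, 3, 1, 4, 3, 2, 4, 5, 6, 3, 4, 5, 2, 3, 4, 1, 3, 2, 0, 2, 3, 1, 4, 3, 2, 7, 6, 1, 3, 4], [5, 6, 3, 4, 5, 2, 3, 4, 1, 3,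 2, 0, 2, 3, 1, 4, 3, 2, 7, 6, 1, 3, 4], [], [], [], [], [], [], [], [], [], [2, 3, 4, 1, 3, 2, 0, 2, 3, 1, 4, 3, 2, 6, 3, 4], [6, 1, 3, 4], [], [], [], [], [], [], [2, 3, 4, 1, 3, 2, 0, 2, 3, 1, 4, 3, 2, 7, 6, 1, 3, 4], [7, 6, 3, 4], [], [], [], [], [], [3, 4, 5, 1, 3, 4], [], [5, 4], [5, 2, 3, 4, 1, 3, 2, 0, 2, 3, 1, 4, 3, 2], [], [], [], [], [6, 7, 5, 6], [6, 5, 2, 3, 4, 1, 3, 2, 0, 2, 3, 1, 4, 3, 2, 7, 6, 4], [5, 2, 3, 4, 1, 3, 2, 0, 2, 3, 1, 4, 3, 2, 4, 5, 6, 3, 4, 5, 2, 3, 4, 1, 3, 2, 0, 2, 3, 1, 4, 3, 2, 7, 6, 1, 3, 4], [6, 3, 4, 5, 2, 3, 4, 1, 3, 2, 0, 2, 3, 1, 4, 3, 2, 7, 6, 1, 3, 4], [], [5, 2, 3, 4, 1, 3, 2, 0, 2, 3, 1, 4, 3, 2, 6, 3, 4], [], [4, 5, 2, 3, 4, 1, 3, 2, 0, 2, 3, 1, 4,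 3, 2, 6, 1, 3, 4], [], [], [], [], [], [5, 2, 3, 4, 1, 3, 2, 0, 2, 3, 1, 4, 3, 2, 7, 6, 1, 3, 4], [], [4, 5, 2, 3, 4, 1, 3, 2, 0, 2, 3, 1, 4, 3, 2, 7, 6, 3, 4], [], [], [], [], [], [], [], [], [], [2, 3, 4, 1, 3, 2, 0, 2, 3, 1, 4, 3, 2, 4], [], [], [], [], [], [], [2, 3, 4, 1, 3, 2, 0, 2, 3, 1, 4, 3, 2, 5, 6, 3, 4, 5, 2, 3, 4, 1, 3, 2, 0, 2, 3, 1, 4, 3, 2, 7, 6, 1, 3, 4], [4, 5, 6, 3, 4, 5, 2, 3, 4, 1, 3, 2, 0, 2, 3, 1, 4, 3, 2, 7, 6, 1, 3, 4], [], [], [], [2, 3, 4, 1, 3, 2, 0, 2, 3, 1, 4, 3, 2, 6, 1, 3, 4], [6, 3, 4], [], [], [], [], [], [], [2, 3, 4, 1, 3, 2, 0, 2, 3, 1, 4, 3, 2, 7, 6, 3, 4], [7, 6, 1, 3, 4], [], [], [], [], [], [], [], [], [], [], [], [], [], [7, 6, 5, 2, 3, 4, 1, 3, 2, 0,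 2, 3, 1, 4, 3, 2, 4, 5, 6, 3, 4, 5, 2, 3, 4, 1, 3, 2, 0, 2, 3, 1, 4, 3, 2, 7, 6, 1, 3, 4], [3, 4, 5, 2, 3, 4, 1, 3, 2, 0, 2, 3, 1, 4, 3, 2, 6, 1, 3, 4], [5, 6], [5, 2, 3, 4, 1, 3, 2, 0, 2, 3, 1, 4, 3, 2, 6, 4], [], [], [], [], [], [], [], [], [], [6, 4, 5, 2, 3, 4, 1, 3, 2, 0, 2, 3, 1, 4, 3, 2, 7, 6, 1, 3, 4], [], [6, 5, 2, 3, 4, 1, 3, 2, 0, 2, 3, 1, 4, 3, 2, 7, 6, 3, 4], [], [], [], [], [5, 3, 4], [], [4, 5, 1, 3, 4], [], [], [], [7, 6], [2, 3, 4, 1, 3, 2, 0, 2, 3, 1, 4, 3, 2, 7, 6, 4], [], [], [], [], [6, 4], [2, 3, 4, 1, 3, 2, 0, 2, 3, 1, 4, 3, 2, 6], [], [], [], [], [], [], [], [], [], [], [], [5, 6, 4, 5, 2, 3, 4, 1, 3, 2, 0, 2, 3, 1, 4, 3, 2, 7, 6, 3, 4], [2, 3, 4, 1, 3, 2, 0, 2, 3, 1,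 4, 3, 2, 5, 6, 4, 5, 2, 3, 4, 1, 3, 2, 0, 2, 3, 1, 4, 3, 2, 7, 6, 1, 3, 4], [], [], [], [], [], [1, 3, 4], [], [], [2, 3, 4, 1, 3, 2, 0, 2, 3, 1, 4, 3, 2, 3, 4], [], [], [], [], [6, 5, 2, 3, 4, 1, 3, 2, 0, 2, 3, 1, 4, 3, 2, 4, 5, 6, 3, 4, 5, 2, 3, 4, 1, 3, 2, 0, 2, 3, 1, 4, 3, 2, 7, 6, 1, 3, 4], [3, 4, 5, 2, 3, 4, 1, 3, 2, 0, 2, 3, 1, 4, 3, 2, 7, 6, 1, 3, 4], [7, 5, 6], [5, 2, 3, 4, 1, 3, 2, 0, 2, 3, 1, 4, 3, 2, 7, 6, 4], [], [], [], [], [], [], [], [], [], [6, 4, 5, 2, 3, 4, 1, 3, 2, 0, 2, 3, 1, 4, 3, 2, 7, 6, 3, 4], [], [6, 5, 2, 3, 4, 1, 3, 2, 0, 2, 3, 1, 4, 3, 2, 7, 6, 1, 3, 4], [], [], [], [], [5, 1, 3, 4], [], [4, 5, 3, 4], [], [], [], [], [], [], [], [], [], [7, 6, 4], [2, 3, 4, 1, 3,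 2, 0, 2, 3, 1, 4, 3, 2, 7, 6], [], [], [], [], [], [], [], [], [6], [2, 3, 4, 1, 3, 2, 0, 2, 3, 1, 4, 3, 2, 6, 4], [], [5, 6, 4, 5, 2, 3, 4, 1, 3, 2, 0, 2, 3, 1, 4, 3, 2, 7, 6, 1, 3, 4], [2, 3, 4, 1, 3, 2, 0, 2, 3, 1, 4, 3, 2, 5, 6, 4, 5, 2, 3, 4, 1, 3, 2, 0, 2, 3, 1, 4, 3, 2, 7, 6, 3, 4], [], [], [], [], [], [3, 4], [], [], [2, 3, 4, 1, 3, 2, 0, 2, 3, 1, 4, 3, 2, 1, 3, 4], [], [], [], []]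

end CfsgLib.Fi22Invol25.FixData
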